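-- helper84: S2289 (presentation of SU_3(q) on three generators): the definitions used by the pieces.
-- Model: `Cfsg.Agent.Helper84.RU3.SUJ bar` (hyperbolic hermitian form), generators
-- `u = uE a₀ b₀`, `h = hE ζ`, `t = tE ε`; `L = ⟨Z, Z^t⟩ ≅ SL₂(K₀)` through `eLM`.
import Mathlib
import Cfsg.Agent.Helper84.RU3.Defs
import Cfsg.Agent.Helper96.SLPresFinal

set_option autoImplicit false

namespace Cfsg.Agent.Helper84.SU3P

open Matrix Polynomial Cfsg.Agent.Helper84.RU3 Cfsg.Agent.Helper96.SLPres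
  Cfsg.Agent.Helper96.StemSLTwo Cfsg.Agent.Helper96.StPres

universe u v

/-- `SL₂` -/
abbrev SL2 (F : Type u) [Field F] := Matrix.SpecialLinearGroup (Fin 2) F

/-- a presentation of `SL₂(F)` on three generators; the first two generators are `x(1)` and `h(z)`,
`z` a generator of `Fˣ`; `ww` is a word for `w(1) = x(1) x₋(-1) x(1)`. -/
structure SLP (F : Type u) [Field F] where
  rels : Finset (FreeGroup (Fin 3))
  pi : PresentedGroup (↑rels : Set (FreeGroup (Fin 3))) →* SL2 F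
  bij : Function.Bijective pi
  z : F
  hz0 : z ≠ 0
  hz : ∀ s : F, s ≠ 0 → ∃ n : ℕ, z ^ n = s
  ww : FreeGroup (Fin 3)
  pi_u : pi (PresentedGroup.of 0) = uMat F 1
  pi_h : pi (PresentedGroup.of 1) = dMat z hz0
  pi_w : pi (PresentedGroup.mk _ ww) = WU (1 : F)

section model

variable {K : Type*} [Field K] (bar : K →+* K)

/-- the Weyl element `e₀ ↦ ε e₂`, `e₂ ↦ -ε⁻¹ e₀` (`bar ε = -ε`) -/
def tM (ε : K) : Matrix (Fin 3) (Fin 3) K := !![0, 0, -ε⁻¹; 0, 1, 0; ε, 0, 0]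

theorem det_tM {ε : K} (hε : ε ≠ 0) : (tM ε).det = 1 := by
  simp [tM, Matrix.det_fin_three, hε]

theorem isUn_tM {ε : K} (hε : ε ≠ 0) (hεb : bar ε = -ε) : IsUn bar (tM ε) := by
  unfold IsUn tM Jm
  ext i j
  fin_cases i <;> fin_cases j <;>
    simp [Matrix.mul_apply, Fin.sum_univ_three, hεb, hε, map_inv₀]

/-- the Weyl element of the model group -/
def tE (ε : K) (hε : ε ≠ 0) (hεb : bar ε = -ε) : SUJ bar :=
  mk bar (tM ε) (det_tM hε) (isUn_tM bar hε hεb)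

@[simp] theorem mt_tE (ε : K) (hε : ε ≠ 0) (hεb : bar ε = -ε) : mt bar (tE bar ε hε hεb) = tM ε := rfl

/-- the embedding of `SL₂(K₀)` (on matrices): `[[a,b],[c,d]] ↦ [[a,0,b c₀],[0,1,0],[c/c₀,0,d]]` -/
def eLM {K₀ : Type*} [Field K₀] (ι : K₀ →+* K) (c₀ : K) (g : Matrix (Fin 2) (Fin 2) K₀) :
    Matrix (Fin 3) (Fin 3) K :=
  !![ι (g 0 0), 0, ι (g 0 1) * c₀; 0, 1, 0; ι (g 1 0) / c₀, 0, ι (g 1 1)]

end model

section abstract

variable {D : Type*} [Group D]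

/-- `B ∪ B t B` -/
def Sset (B : Subgroup D) (t : D) : Set D :=
  {g | g ∈ B ∨ ∃ b₁ ∈ B, ∃ b₂ ∈ B, g = b₁ * t * b₂}

/-- `t x t⁻¹ ∈ B ∪ B t B` -/
def Good (B : Subgroup D) (t x : D) : Prop := t * x * t⁻¹ ∈ Sset B t

variable {K₀ : Type*} [Field K₀]

/-- the image of the upper unitriangular subgroup of `SL₂(K₀)` -/
def Zt (φ : SL2 K₀ →* D) : Subgroup D := (unip K₀).map φ

theorem mem_Zt {φ : SL2 K₀ →* D} {x : D} : x ∈ Zt φ ↔ ∃ s : K₀, φ (uMat K₀ s) = x := by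
  unfold Zt unip
  rw [Subgroup.mem_map]
  constructor
  · rintro ⟨g, ⟨a, rfl⟩, rfl⟩
    exact ⟨Multiplicative.toAdd a, rfl⟩
  · rintro ⟨s, rfl⟩
    exact ⟨uMat K₀ s, ⟨Multiplicative.ofAdd s, rfl⟩, rfl⟩

/-- `Ũ = ⟨h^i u h^{-i}⟩ Z̃` -/
def Ut (φ : SL2 K₀ →* D) (h u : D) : Subgroup D :=
  Subgroup.closure (Set.range (uz h u)) ⊔ Zt φ

end abstract

end Cfsg.Agent.Helper84.SU3P
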