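-- helper84: S2289 (presentation of SU_3(q) on three generators): the cross relators and the model data.
import Mathlib
import Cfsg.Agent.Helper84.SU3P.Defs

set_option autoImplicit false

namespace Cfsg.Agent.Helper84.SU3P

open Matrix Polynomial Cfsg.Agent.Helper84.RU3 Cfsg.Agent.Helper96.SLPres
  Cfsg.Agent.Helper96.StemSLTwo Cfsg.Agent.Helper96.StPres

/-- the parameters of the cross relators -/
structure Par (p : ℕ) where
  n1 : ℕ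
  q : ℕ
  kc : ℕ
  k4 : ℕ
  c4 : ℤ
  mθ : (ZMod p)[X]
  gC : ℕ → (ZMod p)[X]
  fZ1 : (ZMod p)[X]
  fC : (ZMod p)[X]
  fU1 : (ZMod p)[X]
  fU2 : (ZMod p)[X]
  fU3 : (ZMod p)[X]
  fU4 : (ZMod p)[X]
  fU5 : (ZMod p)[X]
  gX : ℕ → (ZMod p)[X]
  fX : ℕ → (ZMod p)[X]
  gA : ℕ → (ZMod p)[X]
  fA : ℕ → (ZMod p)[X]
  nA : ℕ → ℕ
  gB : ℕ → (ZMod p)[X]
  fB : ℕ → (ZMod p)[X]

section words

variable {D : Type*} [Group D] {E : Type*} [Group E] {p : ℕ}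

/-- `w = [u, h u h⁻¹]` -/
def wW (h u : D) : D := u * uz h u 1 * u⁻¹ * (uz h u 1)⁻¹

/-- the word of an element of the central root group -/
noncomputable def zW (P : Par p) (h u : D) (f : (ZMod p)[X]) : D := PW p (h ^ P.n1) (wW h u) f

/-- the word of an element of the upper unitriangular group -/
noncomputable def uW (P : Par p) (h u : D) (g f : (ZMod p)[X]) : D := PW p h u g * zW P h u f

/-- the nine fixed cross relators -/
noncomputable def crossA (P : Par p) (u h t : D) : List D :=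
  [h * wW h u * h⁻¹ * (zW P h u P.fZ1)⁻¹,
   t * h * t⁻¹ * h ^ P.q,
   h ^ (P.q ^ 2 - 1),
   ((List.range P.kc).map fun i : ℕ => PW p (h ^ (P.q - 1)) (uz h u i) (P.gC i)).prod⁻¹ *
     uz h u P.kc * (zW P h u P.fC)⁻¹,
   u ^ p * (zW P h u P.fU1)⁻¹,
   u * uz h u 2 * u⁻¹ * (uz h u 2)⁻¹ * (zW P h u P.fU2)⁻¹,
   u * uz h u 3 * u⁻¹ * (uz h u 3)⁻¹ * (zW P h u P.fU3)⁻¹,
   (uz h u 3 * uz h u 2 ^ (3 * P.c4) * uz h u 1 ^ (3 : ℤ) * uz h u 0 ^ P.c4)⁻¹ * uz h u P.k4 *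
     (zW P h u P.fU4)⁻¹,
   PW p h u P.mθ * (zW P h u P.fU5)⁻¹]

/-- the three seed relators `t x_j t⁻¹ = A_j t B_j` -/
noncomputable def crossS (P : Par p) (u h t : D) : List D :=
  (List.range 3).map fun j : ℕ =>
    t * uW P h u (P.gX j) (P.fX j) * t⁻¹ *
      (uW P h u (P.gA j) (P.fA j) * h ^ P.nA j * t * uW P h u (P.gB j) (P.fB j))⁻¹

/-- the `kc` centrality relators `[h^i u h^{-i}, w] = 1` -/
noncomputable def crossC (P : Par p) (u h : D) : List D :=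
  (List.range P.kc).map fun i : ℕ => uz h u i * wW h u * (uz h u i)⁻¹ * (wW h u)⁻¹

/-- the cross relators -/
noncomputable def crossWords (P : Par p) (u h t : D) : List D :=
  crossA P u h t ++ crossS P u h t ++ crossC P u h

theorem length_crossWords (P : Par p) (u h t : D) : (crossWords P u h t).length = 12 + P.kc := by
  simp [crossWords, crossA, crossS, crossC]
  omega

end words

section model

variable {K : Type*} [Field K] (bar : K →+* K) {p : ℕ} [Fact p.Prime] [Algebra (ZMod p) K]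
  {K₀ : Type*} [Field K₀] (ι : K₀ →+* K)

/-- the model data: the three generators in `SUJ bar`, the embedded `SL₂(K₀)`, the validity of the
cross relators in the model and the field data used by the proof -/
structure Model (d : SLP K₀) (P : Par p) (Y2 : FreeGroup (Fin 3)) where
  U₀ : SUJ bar
  H₀ : SUJ bar
  T₀ : SUJ bar
  a₀ : K
  b₀ : K
  ζ : K
  ε : K
  c₀ : K
  ha₀ : a₀ ≠ 0
  h₀ : b₀ + bar b₀ + a₀ * bar a₀ = 0
  hζ : ∀ x : K, x ≠ 0 → ∃ n : ℕ, ζ ^ n = x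
  hy₀ : ∀ y : K, y * bar y = 1 → ∃ n : ℕ, (-(b₀ / bar b₀)) ^ n = y
  hε : ε ≠ 0
  hεb : bar ε = -ε
  hc₀ : c₀ ≠ 0
  hc₀b : bar c₀ = -c₀
  hU₀ : mt bar U₀ = uM bar a₀ b₀
  hH₀ : mt bar H₀ = hM bar ζ
  hT₀ : mt bar T₀ = tM ε
  hι : ∀ y : K₀, bar (ι y) = ι y
  hιfix : ∀ x : K, bar x = x → ∃ y : K₀, ι y = x
  eL : SL2 K₀ →* SUJ bar
  heL : ∀ g : SL2 K₀, mt bar (eL g) = eLM ι c₀ g.1
  hW : wW H₀ U₀ = eL (uMat K₀ 1)
  hHL : H₀ ^ P.n1 = eL (dMat d.z d.hz0)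
  hY2 : FreeGroup.lift ![U₀, H₀, T₀] Y2 = eL (d.pi (PresentedGroup.of 2))
  hT : T₀ = eL (WU 1)
  hsurj : ∀ a : K, ∃ f : (ZMod p)[X], aeval (bar ζ ^ 2 / ζ) f = a
  hmθ : ∀ f : (ZMod p)[X], aeval (bar ζ ^ 2 / ζ) f = 0 → P.mθ ∣ f
  hc4 : P.c4 = 1 ∨ P.c4 = -1
  hcross : ∀ r ∈ crossWords P U₀ H₀ T₀, r = 1
  hX : ∀ j : ℕ, j < 3 → mt bar (uW P H₀ U₀ (P.gX j) (P.fX j)) =
    uM bar (ζ ^ j * a₀) ((ζ * bar ζ) ^ j * b₀)

end model

end Cfsg.Agent.Helper84.SU3P
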