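-- helper84: S2289, the core: a group satisfying the relators maps injectively to the model group.
import Mathlib
import Cfsg.Agent.Helper84.SU3P.Words
import Cfsg.Agent.Helper50.SU3P_FLD0
import Cfsg.Agent.Helper67.SU3P_PHI
import Cfsg.Agent.Helper93.SU3P_PHI2
import Cfsg.Agent.Helper42.SU3P_ZT
import Cfsg.Agent.Helper59.SU3P_CEN
import Cfsg.Agent.Helper64.SU3P_BM
import Cfsg.Agent.Helper55.SU3P_PU
import Cfsg.Agent.Helper93.SU3P_HN
import Cfsg.Agent.Helper87.SU3P_IU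
import Cfsg.Agent.Helper10.SU3P_IB
import Cfsg.Agent.Helper53.SU3P_ZG
import Cfsg.Agent.Helper49.SU3P_HZ
import Cfsg.Agent.Helper47.SU3P_COMB
import Cfsg.Agent.Helper67.SU3P_RTH
import Cfsg.Agent.Helper67.SU3P_RTR
import Cfsg.Agent.Helper22.SU3P_UNI
import Cfsg.Agent.Helper10.SU3P_UT
import Cfsg.Agent.Helper42.SU3P_R1

set_option autoImplicit false

namespace Cfsg.Agent.Helper84.SU3P

open Matrix Polynomial Cfsg.Agent.Helper84.RU3 Cfsg.Agent.Helper96.SLPres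
  Cfsg.Agent.Helper96.StemSLTwo Cfsg.Agent.Helper96.StPres

section aux

variable {D : Type*} [Group D] {E : Type*} [Group E] {p : ℕ}

theorem map_wW (f : D →* E) (h u : D) : f (wW h u) = wW (f h) (f u) := by
  simp only [wW, map_mul, map_inv, map_uz]

theorem map_zW (f : D →* E) (P : Par p) (h u : D) (g : (ZMod p)[X]) :
    f (zW P h u g) = zW P (f h) (f u) g := by
  simp only [zW, map_PW, map_wW, map_pow]

theorem map_uW (f : D →* E) (P : Par p) (h u : D) (g₁ g₂ : (ZMod p)[X]) :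
    f (uW P h u g₁ g₂) = uW P (f h) (f u) g₁ g₂ := by
  simp only [uW, map_mul, map_PW, map_zW]

theorem map_lift3 (f : D →* E) (a b c : D) (x : FreeGroup (Fin 3)) :
    f (FreeGroup.lift ![a, b, c] x) = FreeGroup.lift ![f a, f b, f c] x := by
  have : f.comp (FreeGroup.lift ![a, b, c]) = FreeGroup.lift ![f a, f b, f c] := by
    ext i
    fin_cases i <;> simp
  exact DFunLike.congr_fun this x

theorem dMat_pow' {F : Type*} [Field F] (z : F) (hz : z ≠ 0) (n : ℕ) :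
    dMat (z ^ n) (pow_ne_zero n hz) = dMat z hz ^ n := by
  induction n with
  | zero => exact (dMat_congr (pow_zero z) _ one_ne_zero).trans (dMat_one.trans (pow_zero _).symm)
  | succ n ih =>
    rw [pow_succ (dMat z hz), ← ih, dMat_mul]
    exact dMat_congr (pow_succ z n) _ _

theorem PW_mem_closure (h u : D) (f : (ZMod p)[X]) :
    PW p h u f ∈ Subgroup.closure (Set.range (uz h u)) := by
  unfold PW
  apply Subgroup.list_prod_mem
  intro x hx
  rw [List.mem_map] at hx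
  obtain ⟨i, _, rfl⟩ := hx
  exact Subgroup.pow_mem _ (Subgroup.subset_closure (Set.mem_range_self (i : ℤ))) _

end aux

section core

variable {K : Type*} [Field K] [Fintype K] (bar : K →+* K) (hb : ∀ x, bar (bar x) = x)
  {p : ℕ} [Fact p.Prime] [Algebra (ZMod p) K]
  {K₀ : Type*} [Field K₀] [Fintype K₀] [Algebra (ZMod p) K₀] (ι : K₀ →+* K)
include hb

omit [Fintype K] hb [Fintype K₀] in
/-- the words `zW` in the model are the images of `uMat` -/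
theorem zW_model (d : SLP K₀) (P : Par p) (Y2 : FreeGroup (Fin 3)) (M : Model bar ι d P Y2)
    (f : (ZMod p)[X]) : zW P M.H₀ M.U₀ f = M.eL (uMat K₀ (aeval (d.z ^ 2) f)) := by
  unfold zW
  rw [M.hHL, M.hW, ← map_PW, PW_SL]

/-- the parameter `ν₀` -/
theorem nu_of_model {q : ℕ} (hK : Fintype.card K = q ^ 2) (hq : ∀ x, bar x = x ^ q)
    (d : SLP K₀) (P : Par p) (Y2 : FreeGroup (Fin 3)) (M : Model bar ι d P Y2) :
    ι (aeval (d.z ^ 2) P.fZ1) = M.ζ * bar M.ζ := by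
  obtain ⟨hζ0, -⟩ := Cfsg.Agent.Helper50.SU3P.gen_facts bar hK hq M.hζ
  have r1 : M.H₀ * wW M.H₀ M.U₀ * M.H₀⁻¹ * (zW P M.H₀ M.U₀ P.fZ1)⁻¹ = 1 :=
    M.hcross _ (by simp [crossWords, crossA])
  have e1 : M.H₀ * wW M.H₀ M.U₀ = zW P M.H₀ M.U₀ P.fZ1 * M.H₀ := by
    have := mul_inv_eq_one.mp r1
    rw [← this]
    group
  rw [zW_model bar ι d P Y2 M, M.hW] at e1
  have e2 := congrArg (mt bar) e1
  rw [mt_mul, mt_mul, M.heL, M.heL, M.hH₀] at e2
  have e3 := congrFun (congrFun e2 0) 2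
  simp [eLM, hM, uMat_coe, Matrix.mul_apply, Fin.sum_univ_three] at e3
  have hbz : bar M.ζ ≠ 0 := (map_ne_zero bar).mpr hζ0
  field_simp at e3
  apply mul_left_cancel₀ M.hc₀
  rw [← e3]
  ring

/-- all elements of `Ũ` are good -/
theorem good_all {q : ℕ} (hK : Fintype.card K = q ^ 2) (hq : ∀ x, bar x = x ^ q)
    {D : Type*} [Group D] (π : D →* SUJ bar) (U' H' : Subgroup D) (t : D)
    {ε ζ a₀ b₀ : K} (hε : ε ≠ 0) (hεb : bar ε = -ε) (hζ : ∀ x : K, x ≠ 0 → ∃ n : ℕ, ζ ^ n = x)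
    (ha₀ : a₀ ≠ 0) (h₀ : b₀ + bar b₀ + a₀ * bar a₀ = 0)
    (hy₀ : ∀ y : K, y * bar y = 1 → ∃ n : ℕ, (-(b₀ / bar b₀)) ^ n = y)
    (hnorm : ∀ h' ∈ H', ∀ x ∈ U', h' * x * h'⁻¹ ∈ U')
    (htH : ∀ h' ∈ H', t * h' * t⁻¹ ∈ H') (ht2 : t ^ 2 ∈ H')
    (hπU : ∀ x ∈ U', ∃ a b : K, mt bar (π x) = uM bar a b)
    (hπH : ∀ h' ∈ H', ∃ l : K, l ≠ 0 ∧ mt bar (π h') = hM bar l)
    (hπH' : ∀ l : K, l ≠ 0 → ∃ h' ∈ H', mt bar (π h') = hM bar l)
    (hπt : mt bar (π t) = tM ε)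
    (hinjU : ∀ x ∈ U', π x = 1 → x = 1)
    (hZg : ∀ s : K, bar s = -s → ∃ z ∈ U', mt bar (π z) = uM bar 0 s ∧ Good (U' ⊔ H') t z)
    (hSeed : ∀ j : ℕ, j < 3 → ∃ x ∈ U', mt bar (π x) = uM bar (ζ ^ j * a₀) ((ζ * bar ζ) ^ j * b₀) ∧
      Good (U' ⊔ H') t x) :
    ∀ x ∈ U', Good (U' ⊔ H') t x := by
  -- uniqueness of the preimage in `U'`
  have huniq : ∀ x ∈ U', ∀ y ∈ U', mt bar (π x) = mt bar (π y) → x = y := by
    intro x hx y hy hxy
    have h1 : π x = π y := ext_mt bar hxy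
    have h2 : π (x * y⁻¹) = 1 := by rw [map_mul, map_inv, h1, mul_inv_cancel]
    have h3 := hinjU _ (U'.mul_mem hx (U'.inv_mem hy)) h2
    exact mul_inv_eq_one.mp h3
  have hP := Cfsg.Agent.Helper47.SU3P.comb bar hb hK hq hε hεb hζ ha₀ h₀ hy₀
    (fun a b => ∀ x ∈ U', mt bar (π x) = uM bar a b → Good (U' ⊔ H') t x)
    (fun a b l hl hP => Cfsg.Agent.Helper67.SU3P.rule_H bar hb π U' H' t hnorm htH hπH' a b l hl hP)
    (fun s hs x hx hxs => by
      obtain ⟨z, hz, hzs, hzg⟩ := hZg s hs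
      rw [huniq x hx z hz (hxs.trans hzs.symm)]
      exact hzg)
    (fun j hj x hx hxs => by
      obtain ⟨z, hz, hzs, hzg⟩ := hSeed j hj
      rw [huniq x hx z hz (hxs.trans hzs.symm)]
      exact hzg)
    (fun a b s hab hb0 hs0 hsb hP hP' =>
      Cfsg.Agent.Helper67.SU3P.rule_R bar hb π U' H' t hε hεb hnorm htH ht2 hπU hπH hπt a b s hab hb0 hs0 hsb
        (hZg s hsb) hP hP')
  intro x hx
  obtain ⟨a, b, hab⟩ := hπU x hx
  have hun : IsUn bar (uM bar a b) := by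
    rw [← hab]
    exact isUn_mt bar (π x)
  exact hP a b (Cfsg.Agent.Helper22.SU3P.uM_cond bar hb hun) x hx hab

/-- (CORE) a group satisfying the relators maps injectively to the model group -/
theorem core_inj {q : ℕ} (hK : Fintype.card K = q ^ 2) (hq : ∀ x, bar x = x ^ q) (hq2 : q ≠ 2)
    (d : SLP K₀) (P : Par p) (Y2 : FreeGroup (Fin 3)) (M : Model bar ι d P Y2) (hPq : P.q = q)
    {D : Type*} [Group D] (π : D →* SUJ bar) (u h t : D)
    (hgen : Subgroup.closure {u, h, t} = ⊤)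
    (hπu : π u = M.U₀) (hπh : π h = M.H₀) (hπt : π t = M.T₀)
    (hL : ∀ r ∈ d.rels, FreeGroup.lift ![wW h u, h ^ P.n1, FreeGroup.lift ![u, h, t] Y2] r = 1)
    (ht : FreeGroup.lift ![wW h u, h ^ P.n1, FreeGroup.lift ![u, h, t] Y2] d.ww = t)
    (hcross : ∀ r ∈ crossWords P u h t, r = 1) : Function.Injective π := by
  classical
  obtain ⟨hζ0, hζpow, hζord, hνgen, hνpow, hbarζ, hq2'⟩ := Cfsg.Agent.Helper50.SU3P.gen_facts bar hK hq M.hζ
  have hιinj : Function.Injective ι := ι.injective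
  -- the homomorphism from `SL₂(K₀)`
  obtain ⟨φ, hφu, hφh, hφt, hφi⟩ :=
    Cfsg.Agent.Helper67.SU3P.exists_phi d (wW h u) (h ^ P.n1) (FreeGroup.lift ![u, h, t] Y2) t hL ht
  have hπφ' : π.comp φ = M.eL := by
    apply Cfsg.Agent.Helper93.SU3P.hom_ext_slp d
    have h0 : (π.comp φ) (d.pi (PresentedGroup.of 0)) = M.eL (d.pi (PresentedGroup.of 0)) := by
      rw [MonoidHom.comp_apply, hφi]
      show π (wW h u) = _
      rw [map_wW, hπh, hπu, M.hW, d.pi_u]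
    have h1 : (π.comp φ) (d.pi (PresentedGroup.of 1)) = M.eL (d.pi (PresentedGroup.of 1)) := by
      rw [MonoidHom.comp_apply, hφi]
      show π (h ^ P.n1) = _
      rw [map_pow, hπh, M.hHL, d.pi_h]
    have h2 : (π.comp φ) (d.pi (PresentedGroup.of 2)) = M.eL (d.pi (PresentedGroup.of 2)) := by
      rw [MonoidHom.comp_apply, hφi]
      show π (FreeGroup.lift ![u, h, t] Y2) = _
      rw [map_lift3, hπu, hπh, hπt, M.hY2]
    intro i
    match i with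
    | 0 => exact h0
    | 1 => exact h1
    | 2 => exact h2
  have hπφ : ∀ g : SL2 K₀, mt bar (π (φ g)) = eLM ι M.c₀ g.1 := fun g => by
    rw [← MonoidHom.comp_apply, hπφ', M.heL]
  have hπu' : mt bar (π u) = uM bar M.a₀ M.b₀ := by rw [hπu, M.hU₀]
  have hπh' : mt bar (π h) = hM bar M.ζ := by rw [hπh, M.hH₀]
  have hπt' : mt bar (π t) = tM M.ε := by rw [hπt, M.hT₀]
  -- the relators
  have hA : ∀ r ∈ crossA P u h t, r = 1 := fun r hr => hcross r (by simp [crossWords, hr])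
  have hS : ∀ r ∈ crossS P u h t, r = 1 := fun r hr => hcross r (by simp [crossWords, hr])
  have hC : ∀ r ∈ crossC P u h, r = 1 := fun r hr => hcross r (by simp [crossWords, hr])
  have r1 : h * wW h u * h⁻¹ * (zW P h u P.fZ1)⁻¹ = 1 := hA _ (by simp [crossA])
  have r2 : t * h * t⁻¹ * h ^ P.q = 1 := hA _ (by simp [crossA])
  have r3 : h ^ (P.q ^ 2 - 1) = 1 := hA _ (by simp [crossA])
  have r4 : ((List.range P.kc).map fun i : ℕ => PW p (h ^ (P.q - 1)) (uz h u i) (P.gC i)).prod⁻¹ *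
     uz h u P.kc * (zW P h u P.fC)⁻¹ = 1 := hA _ (by simp [crossA])
  have r5 : u ^ p * (zW P h u P.fU1)⁻¹ = 1 := hA _ (by simp [crossA])
  have r6 : u * uz h u 2 * u⁻¹ * (uz h u 2)⁻¹ * (zW P h u P.fU2)⁻¹ = 1 := hA _ (by simp [crossA])
  have r7 : u * uz h u 3 * u⁻¹ * (uz h u 3)⁻¹ * (zW P h u P.fU3)⁻¹ = 1 := hA _ (by simp [crossA])
  have r8 : (uz h u 3 * uz h u 2 ^ (3 * P.c4) * uz h u 1 ^ (3 : ℤ) * uz h u 0 ^ P.c4)⁻¹ *
     uz h u P.k4 * (zW P h u P.fU4)⁻¹ = 1 := hA _ (by simp [crossA])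
  have r9 : PW p h u P.mθ * (zW P h u P.fU5)⁻¹ = 1 := hA _ (by simp [crossA])
  -- the words `zW` are in the image of the root group
  have hzW : ∀ f : (ZMod p)[X], zW P h u f = φ (uMat K₀ (aeval (d.z ^ 2) f)) := by
    intro f
    unfold zW
    rw [← hφh, ← hφu, ← map_PW, PW_SL]
  have hzWmem : ∀ f : (ZMod p)[X], zW P h u f ∈ Zt φ := fun f => mem_Zt.mpr ⟨_, (hzW f).symm⟩
  -- the parameter `ν₀`
  obtain ⟨ν₀, hν₀def⟩ : ∃ ν₀ : K₀, ν₀ = aeval (d.z ^ 2) P.fZ1 := ⟨_, rfl⟩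
  have hν₀ : ι ν₀ = M.ζ * bar M.ζ := by
    rw [hν₀def]
    exact nu_of_model bar hb ι hK hq d P Y2 M
  have hbζ0 : bar M.ζ ≠ 0 := (map_ne_zero bar).mpr hζ0
  have hν₀ne : ν₀ ≠ 0 := by
    intro h0
    rw [h0, map_zero] at hν₀
    exact mul_ne_zero hζ0 hbζ0 hν₀.symm
  have hνgen' : ∀ s : K₀, s ≠ 0 → ∃ i : ℕ, ν₀ ^ i = s := by
    intro s hs
    obtain ⟨n, hn⟩ := hνgen (ι s) ((map_ne_zero ι).mpr hs) (M.hι s)
    refine ⟨n, hιinj ?_⟩
    rw [map_pow, hν₀, hn]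
  have hνm : ν₀ ^ (q - 1) = 1 := by
    apply hιinj
    rw [map_pow, hν₀, hνpow, map_one]
  have h1 : h * φ (uMat K₀ 1) * h⁻¹ = φ (uMat K₀ ν₀) := by
    rw [hφu, hν₀def, ← hzW]
    have := mul_inv_eq_one.mp r1
    exact this
  have hφH : ∀ (r : K₀) (hr : r ≠ 0), φ (dMat r hr) ∈ Subgroup.zpowers h := by
    intro r hr
    obtain ⟨n, hn⟩ := d.hz r hr
    have e : dMat r hr = dMat d.z d.hz0 ^ n := by
      rw [← dMat_pow']
      exact dMat_congr hn.symm _ _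
    rw [e, map_pow, hφh, ← pow_mul]
    exact Subgroup.pow_mem _ (Subgroup.mem_zpowers h) _
  have hcomm : ∀ (r : K₀) (hr : r ≠ 0), Commute (φ (dMat r hr)) h := by
    intro r hr
    obtain ⟨k, hk⟩ := Subgroup.mem_zpowers_iff.mp (hφH r hr)
    rw [← hk]
    exact (Commute.refl h).zpow_left k
  have hconj := Cfsg.Agent.Helper42.SU3P.ztorus φ h ν₀ hcomm h1
  -- centrality
  have hq1 : 0 < q ^ 2 - 1 := by
    have : 2 ^ 2 ≤ q ^ 2 := Nat.pow_le_pow_left hq2' 2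
    omega
  have hh : h ^ (q ^ 2 - 1) = 1 := by rw [← hPq]; exact r3
  have hC1 : ∀ i : ℕ, i < P.kc → Commute (uz h u i) (φ (uMat K₀ 1)) := by
    intro i hi
    have := hC (uz h u i * wW h u * (uz h u i)⁻¹ * (wW h u)⁻¹)
      (by unfold crossC; exact List.mem_map.mpr ⟨i, List.mem_range.mpr hi, rfl⟩)
    rw [hφu]
    have e := mul_inv_eq_one.mp this
    have e2 := mul_inv_eq_iff_eq_mul.mp e
    exact e2
  have hC2 : uz h u P.kc ∈ Subgroup.closure
      ({g | ∃ i : ℕ, i < P.kc ∧ ∃ j : ℤ, g = uz (h ^ (q - 1)) (uz h u i) j} ∪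
        Set.range (fun s : K₀ => φ (uMat K₀ s))) := by
    have e : uz h u P.kc =
        ((List.range P.kc).map fun i : ℕ => PW p (h ^ (P.q - 1)) (uz h u i) (P.gC i)).prod *
          zW P h u P.fC := by
      have := mul_inv_eq_one.mp r4
      rw [← this]
      group
    rw [e, hPq]
    apply Subgroup.mul_mem
    · apply Subgroup.list_prod_mem
      intro x hx
      rw [List.mem_map] at hx
      obtain ⟨i, hi, rfl⟩ := hx
      have hle : Subgroup.closure (Set.range (uz (h ^ (q - 1)) (uz h u i))) ≤ Subgroup.closure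
          ({g | ∃ i : ℕ, i < P.kc ∧ ∃ j : ℤ, g = uz (h ^ (q - 1)) (uz h u i) j} ∪
            Set.range (fun s : K₀ => φ (uMat K₀ s))) := by
        apply Subgroup.closure_mono
        rintro _ ⟨j, rfl⟩
        exact Or.inl ⟨i, List.mem_range.mp hi, j, rfl⟩
      exact hle (PW_mem_closure _ _ _)
    · rw [hzW]
      exact Subgroup.subset_closure (Or.inr ⟨_, rfl⟩)
  have hcent := Cfsg.Agent.Helper59.SU3P.central φ h u ν₀ (q ^ 2 - 1) hq1 hh (q - 1) hνgen' hνm hconj P.kc hC1 hC2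
  -- the Borel relations modulo `Z̃`
  have hZh : ∀ z ∈ Zt φ, h * z * h⁻¹ ∈ Zt φ := by
    intro z hz
    obtain ⟨s, rfl⟩ := mem_Zt.mp hz
    rw [hconj]
    exact mem_Zt.mpr ⟨_, rfl⟩
  have hZh' : ∀ z ∈ Zt φ, h⁻¹ * z * h ∈ Zt φ := by
    intro z hz
    obtain ⟨s, rfl⟩ := mem_Zt.mp hz
    have e := hconj (ν₀⁻¹ * s)
    rw [mul_inv_cancel_left₀ hν₀ne] at e
    rw [← e]
    refine mem_Zt.mpr ⟨ν₀⁻¹ * s, ?_⟩
    group
  have hZu : ∀ z ∈ Zt φ, ∀ i : ℤ, Commute (uz h u i) z := by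
    intro z hz i
    obtain ⟨s, rfl⟩ := mem_Zt.mp hz
    exact hcent i s
  have hup : u ^ p ∈ Zt φ := by
    rw [mul_inv_eq_one.mp r5]
    exact hzWmem _
  have hb1 : u * uz h u 1 * u⁻¹ * (uz h u 1)⁻¹ ∈ Zt φ := mem_Zt.mpr ⟨1, hφu⟩
  have hb2 : u * uz h u 2 * u⁻¹ * (uz h u 2)⁻¹ ∈ Zt φ := by
    rw [mul_inv_eq_one.mp r6]
    exact hzWmem _
  have hb3 : u * uz h u 3 * u⁻¹ * (uz h u 3)⁻¹ ∈ Zt φ := by
    rw [mul_inv_eq_one.mp r7]
    exact hzWmem _
  have hbk : (uz h u 3 * uz h u 2 ^ (3 * P.c4) * uz h u 1 ^ (3 : ℤ) * uz h u 0 ^ P.c4)⁻¹ *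
      uz h u P.k4 ∈ Zt φ := by
    rw [mul_inv_eq_one.mp r8]
    exact hzWmem _
  have hbPW : PW p h u P.mθ ∈ Zt φ := by
    rw [mul_inv_eq_one.mp r9]
    exact hzWmem _
  have hZnorm : h ∈ Subgroup.normalizer (Zt φ : Set D) := by
    rw [Subgroup.mem_normalizer_iff]
    intro z
    constructor
    · exact hZh z
    · intro hz
      have := hZh' _ hz
      have e : h⁻¹ * (h * z * h⁻¹) * h = z := by group
      rwa [e] at this
  have hZu0 : ∀ z ∈ Zt φ, Commute u z := by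
    intro z hz
    have := hZu z hz 0
    rwa [uz_zero] at this
  have hbk' : (uz h u 3 * uz h u 2 ^ (3 * P.c4) * uz h u 1 ^ 3 * u ^ P.c4)⁻¹ *
      uz h u P.k4 ∈ Zt φ := by
    have e : uz h u 1 ^ (3 : ℤ) = uz h u 1 ^ 3 := zpow_ofNat _ 3
    rw [e, uz_zero] at hbk
    exact hbk
  have hBM := Cfsg.Agent.Helper64.SU3P.borel_mod (bar M.ζ ^ 2 / M.ζ) M.hsurj P.mθ M.hmθ h u (Zt φ)
    hZnorm hZu0 hup hb1 hb2 hb3 (P.k4 : ℤ) P.c4 M.hc4 hbk' hbPW
  -- the Borel layer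
  have hπU := Cfsg.Agent.Helper55.SU3P.pi_Ut bar hb ι π φ h u hζ0 hπu' hπh' hπφ
  have hnormh := Cfsg.Agent.Helper93.SU3P.conj_Ut bar hb φ h u hν₀ne hconj
  have hinjU := Cfsg.Agent.Helper87.SU3P.inj_Ut bar hb ι π φ h u M.ha₀ hζ0 M.hc₀ hπu' hπh' hπφ hcent hBM M.hsurj
  have hinjB := Cfsg.Agent.Helper10.SU3P.inj_Bt bar hb π (Ut φ h u) h hζ0 (q ^ 2 - 1) hh hζord hπh' hπU hinjU hnormh
  -- the torus normalises `Ũ`, and `t` normalises the torus
  have hnorm : ∀ h' ∈ Subgroup.zpowers h, ∀ x ∈ Ut φ h u, h' * x * h'⁻¹ ∈ Ut φ h u := by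
    have hmem : h ∈ Subgroup.normalizer (Ut φ h u : Set D) := by
      rw [Subgroup.mem_normalizer_iff]
      intro x
      constructor
      · intro hx
        exact (hnormh x hx).1
      · intro hx
        have := (hnormh _ hx).2
        have e : h⁻¹ * (h * x * h⁻¹) * h = x := by group
        rwa [e] at this
    have hle : Subgroup.zpowers h ≤ Subgroup.normalizer (Ut φ h u : Set D) :=
      (Subgroup.zpowers_le).mpr hmem
    intro h' hh' x hx
    exact (Subgroup.mem_normalizer_iff.mp (hle hh') x).mp hx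
  have htH : ∀ h' ∈ Subgroup.zpowers h, t * h' * t⁻¹ ∈ Subgroup.zpowers h := by
    intro h' hh'
    obtain ⟨k, rfl⟩ := Subgroup.mem_zpowers_iff.mp hh'
    have e : t * h * t⁻¹ = (h ^ P.q)⁻¹ := mul_eq_one_iff_eq_inv.mp r2
    have e2 : t * h ^ k * t⁻¹ = (t * h * t⁻¹) ^ k := (conj_zpow).symm
    rw [e2, e]
    exact Subgroup.zpow_mem _ (Subgroup.inv_mem _ (Subgroup.pow_mem _ (Subgroup.mem_zpowers h) _)) _
  have hZU : ∀ s : K₀, φ (uMat K₀ s) ∈ Ut φ h u := fun s =>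
    (le_sup_right : Zt φ ≤ Ut φ h u) (mem_Zt.mpr ⟨s, rfl⟩)
  obtain ⟨hZgood, ht2⟩ := Cfsg.Agent.Helper53.SU3P.z_good φ (Ut φ h u) (Subgroup.zpowers h) t hφt hZU hφH
  have hπH : ∀ h' ∈ Subgroup.zpowers h, ∃ l : K, l ≠ 0 ∧ mt bar (π h') = hM bar l := by
    intro h' hh'
    obtain ⟨k, rfl⟩ := Subgroup.mem_zpowers_iff.mp hh'
    refine ⟨M.ζ ^ k, zpow_ne_zero k hζ0, ?_⟩
    rw [map_zpow]
    exact Cfsg.Agent.Helper49.SU3P.mt_zpow_hM bar hb (π h) M.ζ hζ0 hπh' k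
  have hπH' : ∀ l : K, l ≠ 0 → ∃ h' ∈ Subgroup.zpowers h, mt bar (π h') = hM bar l := by
    intro l hl
    obtain ⟨n, hn⟩ := M.hζ l hl
    refine ⟨h ^ (n : ℤ), Subgroup.zpow_mem_zpowers h _, ?_⟩
    rw [map_zpow, Cfsg.Agent.Helper49.SU3P.mt_zpow_hM bar hb (π h) M.ζ hζ0 hπh' n, zpow_natCast, hn]
  have hZg : ∀ s : K, bar s = -s → ∃ z ∈ Ut φ h u, mt bar (π z) = uM bar 0 s ∧
      Good (Ut φ h u ⊔ Subgroup.zpowers h) t z := by
    intro s hs
    have hfix : bar (s / M.c₀) = s / M.c₀ := by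
      rw [map_div₀, hs, M.hc₀b, neg_div_neg_eq]
    obtain ⟨y, hy⟩ := M.hιfix _ hfix
    refine ⟨φ (uMat K₀ y), hZU y, ?_, hZgood y⟩
    rw [hπφ]
    have hc := M.hc₀
    simp only [eLM, uM, uMat_coe]
    ext i j
    fin_cases i <;> fin_cases j <;> simp [hy, hc]
  have hSeed : ∀ j : ℕ, j < 3 → ∃ x ∈ Ut φ h u,
      mt bar (π x) = uM bar (M.ζ ^ j * M.a₀) ((M.ζ * bar M.ζ) ^ j * M.b₀) ∧
      Good (Ut φ h u ⊔ Subgroup.zpowers h) t x := by
    intro j hj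
    have huWmem : ∀ g f : (ZMod p)[X], uW P h u g f ∈ Ut φ h u := fun g f =>
      Subgroup.mul_mem _ ((le_sup_left : _ ≤ Ut φ h u) (PW_mem_closure h u g))
        ((le_sup_right : Zt φ ≤ Ut φ h u) (hzWmem f))
    refine ⟨uW P h u (P.gX j) (P.fX j), huWmem _ _, ?_, ?_⟩
    · rw [map_uW, hπh, hπu]
      exact M.hX j hj
    · have rS := hS (t * uW P h u (P.gX j) (P.fX j) * t⁻¹ *
        (uW P h u (P.gA j) (P.fA j) * h ^ P.nA j * t * uW P h u (P.gB j) (P.fB j))⁻¹)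
        (by unfold crossS; exact List.mem_map.mpr ⟨j, List.mem_range.mpr hj, rfl⟩)
      have e := mul_inv_eq_one.mp rS
      unfold Good Sset
      right
      refine ⟨uW P h u (P.gA j) (P.fA j) * h ^ P.nA j, ?_, uW P h u (P.gB j) (P.fB j), ?_, e⟩
      · exact Subgroup.mul_mem _ ((le_sup_left : Ut φ h u ≤ _) (huWmem _ _))
          ((le_sup_right : Subgroup.zpowers h ≤ _) (Subgroup.pow_mem _ (Subgroup.mem_zpowers h) _))
      · exact (le_sup_left : Ut φ h u ≤ _) (huWmem _ _)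
  have hgood := good_all bar hb hK hq π (Ut φ h u) (Subgroup.zpowers h) t M.hε M.hεb M.hζ M.ha₀ M.h₀
    M.hy₀ hnorm htH ht2 hπU hπH hπH' hπt' hinjU hZg hSeed
  -- the rank one criterion
  have hgen' : Subgroup.closure (((Ut φ h u : Subgroup D) : Set D) ∪
      ((Subgroup.zpowers h : Subgroup D) : Set D) ∪ {t}) = ⊤ := by
    rw [eq_top_iff, ← hgen, Subgroup.closure_le]
    rintro x (rfl | rfl | rfl)
    · apply Subgroup.subset_closure
      left; left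
      have : uz h x 0 ∈ Subgroup.closure (Set.range (uz h x)) :=
        Subgroup.subset_closure (Set.mem_range_self 0)
      rw [uz_zero] at this
      exact (le_sup_left : _ ≤ Ut φ h x) this
    · apply Subgroup.subset_closure
      left; right
      exact Subgroup.mem_zpowers x
    · apply Subgroup.subset_closure
      right
      rfl
  have hT : ∀ b ∈ Ut φ h u ⊔ Subgroup.zpowers h, π b ≠ π t := by
    intro b hb' heq
    have h20 := (Cfsg.Agent.Helper10.SU3P.upper_Bt bar hb π (Ut φ h u) (Subgroup.zpowers h) hπU hπH b hb').2.1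
    rw [heq, hπt'] at h20
    simp [tM] at h20
    exact M.hε h20
  exact Cfsg.Agent.Helper42.SU3P.rank_one_injective π (Ut φ h u) (Subgroup.zpowers h) t hnorm htH ht2 hgen' hinjB hgood hT

end core

end Cfsg.Agent.Helper84.SU3P
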