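-- helper84: S2289, the model side: existence of the model data, generation, centre.
import Mathlib
import Cfsg.Agent.Helper84.SU3P.Words
import Cfsg.Agent.Helper63.SU3P_MR5
import Cfsg.Agent.Helper65.SU3P_MR1
import Cfsg.Agent.Helper60.SU3P_MR2
import Cfsg.Agent.Helper65.SU3P_MR3
import Cfsg.Agent.Helper30.SU3P_MR6
import Cfsg.Agent.Helper22.SU3P_MR7
import Cfsg.Agent.Helper22.SU3P_MR8
import Cfsg.Agent.Helper50.SU3P_FLD0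
import Cfsg.Agent.Helper41.SU3P_FLD1
import Cfsg.Agent.Helper37.SU3P_FLD2
import Cfsg.Agent.Helper50.SU3P_FLD3
import Cfsg.Agent.Helper42.SU3P_NT
import Cfsg.Agent.Helper20.SU3P_SLPX
import Cfsg.Agent.Helper48.SU3P_GEN
import Cfsg.Agent.Helper59.SU3P_CENT
import Cfsg.Agent.Helper37.SU3P_EL
import Cfsg.Agent.Helper70.SU3P_WZ
import Cfsg.Agent.Helper63.SU3P_WU
import Cfsg.Agent.Helper59.SU3P_PW
import Cfsg.Agent.Helper37.SU3P_UZ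
import Cfsg.Agent.Helper53.SU3P_BAS
import Cfsg.Agent.Helper49.SU3P_HZ

set_option autoImplicit false

namespace Cfsg.Agent.Helper84.SU3P

open Matrix Polynomial Cfsg.Agent.Helper84.RU3 Cfsg.Agent.Helper96.SLPres
  Cfsg.Agent.Helper96.StemSLTwo Cfsg.Agent.Helper96.StPres

variable {K : Type*} [Field K] [Fintype K] (bar : K →+* K) (hb : ∀ x, bar (bar x) = x)
  {p : ℕ} [Fact p.Prime] [Algebra (ZMod p) K]
  {K₀ : Type*} [Field K₀] [Fintype K₀] [Algebra (ZMod p) K₀] (ι : K₀ →+* K)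
include hb

/-- (MGEN) the generators of the model generate -/
theorem model_gen {q : ℕ} (hK : Fintype.card K = q ^ 2) (hq : ∀ x, bar x = x ^ q) (hq2 : q ≠ 2)
    (d : SLP K₀) (P : Par p) (Y2 : FreeGroup (Fin 3)) (M : Model bar ι d P Y2) :
    Subgroup.closure {M.U₀, M.H₀, M.T₀} = ⊤ :=
  Cfsg.Agent.Helper48.SU3P.closure_gens bar hb hK hq hq2 M.hζ M.U₀ M.H₀ M.T₀ M.ha₀ M.hε M.hU₀ M.hH₀
    M.hT₀

/-- (MCEN) the centre of the model group in terms of the generators -/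
theorem model_center {q : ℕ} (hK : Fintype.card K = q ^ 2) (hq : ∀ x, bar x = x ^ q)
    (d : SLP K₀) (P : Par p) (Y2 : FreeGroup (Fin 3)) (M : Model bar ι d P Y2) :
    M.H₀ ^ ((q ^ 2 - 1) / Nat.gcd 3 (q + 1)) ∈ Subgroup.center (SUJ bar) ∧
    ∀ g ∈ Subgroup.center (SUJ bar), ∃ i : ℕ, g = (M.H₀ ^ ((q ^ 2 - 1) / Nat.gcd 3 (q + 1))) ^ i :=
  Cfsg.Agent.Helper59.SU3P.center_SUJ bar hb hK hq M.hζ M.H₀ M.hH₀

/-- (MODEL) existence of the model data -/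
theorem exists_model {q : ℕ} (hK : Fintype.card K = q ^ 2) (hq : ∀ x, bar x = x ^ q)
    (hq2 : q ≠ 2) (hq5 : q ≠ 5) (hι : ∀ y : K₀, bar (ι y) = ι y)
    (hιfix : ∀ x : K, bar x = x → ∃ y : K₀, ι y = x) :
    ∃ (d : SLP K₀) (P : Par p) (Y2 : FreeGroup (Fin 3)),
      Nonempty (Model bar ι d P Y2) ∧ P.q = q ∧ d.rels.card + P.kc ≤ 10 := by
  classical
  obtain ⟨ζ, -, hζ⟩ := exists_gen K
  obtain ⟨hζ0, hζpow, hζord, hνgen, hνpow, hbarζ, hq2'⟩ :=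
    Cfsg.Agent.Helper50.SU3P.gen_facts bar hK hq hζ
  obtain ⟨hsurj, hθ⟩ := Cfsg.Agent.Helper41.SU3P.theta_surj (p := p) bar hK hq hq2 hζ
  obtain ⟨b₀, h₀, hy₀⟩ := Cfsg.Agent.Helper50.SU3P.exists_seed bar hK hq
  -- the constants `c₀`, `ε`
  obtain ⟨c₀, hc₀def⟩ : ∃ c₀ : K, c₀ = 1 * bar 1 * (bar (bar ζ ^ 2 / ζ) - bar ζ ^ 2 / ζ) := ⟨_, rfl⟩
  have hc₀ : c₀ ≠ 0 := by
    rw [hc₀def, map_one, one_mul, one_mul]
    exact sub_ne_zero.mpr hθ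
  have hc₀b : bar c₀ = -c₀ := by
    rw [hc₀def, map_mul, map_mul, map_sub, hb, map_one, hb]
    ring
  obtain ⟨ε, hεdef⟩ : ∃ ε : K, ε = -1 / c₀ := ⟨_, rfl⟩
  have hε : ε ≠ 0 := by
    rw [hεdef]
    exact div_ne_zero (neg_ne_zero.mpr one_ne_zero) hc₀
  have hεb : bar ε = -ε := by
    rw [hεdef, map_div₀, map_neg, map_one, hc₀b]
    field_simp
  -- the generators and the embedded `SL₂`
  obtain ⟨U₀, hU₀⟩ : ∃ U₀ : SUJ bar, mt bar U₀ = uM bar 1 b₀ := ⟨uE bar hb 1 b₀ h₀, rfl⟩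
  obtain ⟨H₀, hH₀⟩ : ∃ H₀ : SUJ bar, mt bar H₀ = hM bar ζ := ⟨hE bar hb ζ hζ0, rfl⟩
  obtain ⟨T₀, hT₀⟩ : ∃ T₀ : SUJ bar, mt bar T₀ = tM ε := ⟨tE bar ε hε hεb, rfl⟩
  obtain ⟨eL, heL⟩ := Cfsg.Agent.Helper37.SU3P.exists_eL bar hb ι hι hc₀ hc₀b
  obtain ⟨d, hd9, hd5⟩ := Cfsg.Agent.Helper20.SU3P.exists_slp K₀
  obtain ⟨n₁, hn₁⟩ := hζ (ι d.z) ((map_ne_zero ι).mpr d.hz0)
  obtain ⟨hW, hHL, hT⟩ := Cfsg.Agent.Helper22.SU3P.model_W bar hb ι hι U₀ H₀ T₀ hζ0 hU₀ hH₀ hT₀ hc₀def hc₀ hεdef eL heL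
    d.z d.hz0 n₁ hn₁
  have hgen := Cfsg.Agent.Helper48.SU3P.closure_gens bar hb hK hq hq2 hζ U₀ H₀ T₀ one_ne_zero hε hU₀
    hH₀ hT₀
  obtain ⟨Y2, hY2⟩ : ∃ w : FreeGroup (Fin 3),
      FreeGroup.lift ![U₀, H₀, T₀] w = eL (d.pi (PresentedGroup.of 2)) := by
    have hr : (FreeGroup.lift ![U₀, H₀, T₀]).range = ⊤ := by
      rw [FreeGroup.range_lift_eq_closure, eq_top_iff, ← hgen]
      apply Subgroup.closure_mono
      rintro x (rfl | rfl | rfl)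
      · exact ⟨0, rfl⟩
      · exact ⟨1, rfl⟩
      · exact ⟨2, rfl⟩
    have : eL (d.pi (PresentedGroup.of 2)) ∈ (FreeGroup.lift ![U₀, H₀, T₀]).range := by
      rw [hr]; trivial
    exact this
  -- words for the central root group and the upper unitriangular group
  have hmtW : mt bar (wW H₀ U₀) = uM bar 0 c₀ := by
    rw [hW, heL]
    simp only [eLM, uM, uMat_coe]
    ext i j
    fin_cases i <;> fin_cases j <;> simp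
  have hZw : ∀ (g : SUJ bar) (s : K), mt bar g = uM bar 0 s →
      ∃ f : (ZMod p)[X], PW p (H₀ ^ n₁) (wW H₀ U₀) f = g := by
    intro g s hg
    obtain ⟨f, hf, -⟩ := Cfsg.Agent.Helper70.SU3P.exists_zword (p := p) bar hb ι hιfix hc₀ hc₀b eL heL d.hz0
      d.hz g s hg
    exact ⟨f, by rw [hHL, hW]; exact hf⟩
  have hUw : ∀ (g : SUJ bar) (a b : K), mt bar g = uM bar a b → ∃ f₁ f₂ : (ZMod p)[X],
      PW p H₀ U₀ f₁ * PW p (H₀ ^ n₁) (wW H₀ U₀) f₂ = g :=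
    Cfsg.Agent.Helper63.SU3P.exists_uword bar hb U₀ H₀ one_ne_zero hζ0 hU₀ hH₀ hsurj
      (fun f => PW p (H₀ ^ n₁) (wW H₀ U₀) f) hZw
  -- the parameters
  obtain ⟨kc, gC, hkc, hgC⟩ := Cfsg.Agent.Helper42.SU3P.exists_gen_rel (p := p) bar hK hq hq2 hq5 hζ
  obtain ⟨k4, c4, hc4, hk4⟩ := Cfsg.Agent.Helper37.SU3P.exists_window bar hK hq hq2 hζ
  obtain ⟨mθ, hmθ0, hmθ⟩ := exists_minpoly (p := p) (bar ζ ^ 2 / ζ)
  -- the polynomials of the relators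
  obtain ⟨fZ1, hfZ1⟩ := hZw _ _ (Cfsg.Agent.Helper22.SU3P.rel_Z1 bar hb (wW H₀ U₀) H₀ hζ0 hmtW hH₀)
  obtain ⟨sC, hsC⟩ := Cfsg.Agent.Helper63.SU3P.rel_C2 bar hb U₀ H₀ hζ0 hU₀ hH₀ q kc gC hgC
  obtain ⟨fC, hfC⟩ := hZw _ _ hsC
  obtain ⟨s1, hs1⟩ := Cfsg.Agent.Helper65.SU3P.rel_U1 (p := p) bar hb U₀ hU₀
  obtain ⟨fU1, hfU1⟩ := hZw _ _ hs1
  have hmtuz : ∀ i : ℤ, mt bar (uz H₀ U₀ i) =
      uM bar (1 * (bar ζ ^ 2 / ζ) ^ i) ((ζ * bar ζ) ^ i * b₀) :=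
    fun i => Cfsg.Agent.Helper37.SU3P.mt_uz bar hb U₀ H₀ 1 b₀ ζ hζ0 hU₀ hH₀ i
  obtain ⟨fU2, hfU2⟩ := hZw _ _ (Cfsg.Agent.Helper60.SU3P.rel_comm bar hb U₀ (uz H₀ U₀ 2) hU₀ (hmtuz 2))
  obtain ⟨fU3, hfU3⟩ := hZw _ _ (Cfsg.Agent.Helper60.SU3P.rel_comm bar hb U₀ (uz H₀ U₀ 3) hU₀ (hmtuz 3))
  obtain ⟨s4, hs4⟩ := Cfsg.Agent.Helper65.SU3P.rel_U4 bar hb U₀ H₀ hζ0 hU₀ hH₀ k4 c4 hc4 hk4
  obtain ⟨fU4, hfU4⟩ := hZw _ _ hs4
  obtain ⟨b5, hb5⟩ := Cfsg.Agent.Helper59.SU3P.mt_PW bar hb U₀ H₀ 1 b₀ ζ hζ0 hU₀ hH₀ mθ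
  rw [hmθ0, zero_mul] at hb5
  obtain ⟨fU5, hfU5⟩ := hZw _ _ hb5
  -- the seeds
  have hb₀ : b₀ ≠ 0 := by
    intro h0
    rw [h0, map_zero, map_one] at h₀
    simp at h₀
  have hbν : bar (ζ * bar ζ) = ζ * bar ζ := by rw [map_mul, hb, mul_comm]
  have hXex : ∀ j : ℕ, ∃ f₁ f₂ : (ZMod p)[X],
      mt bar (PW p H₀ U₀ f₁ * PW p (H₀ ^ n₁) (wW H₀ U₀) f₂) =
        uM bar (ζ ^ j * 1) ((ζ * bar ζ) ^ j * b₀) := by
    intro j
    have hcond : (ζ * bar ζ) ^ j * b₀ + bar ((ζ * bar ζ) ^ j * b₀) +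
        (ζ ^ j * 1) * bar (ζ ^ j * 1) = 0 := by
      rw [map_mul, map_pow, hbν, map_mul, map_pow, map_one]
      have : (ζ * bar ζ) ^ j * b₀ + (ζ * bar ζ) ^ j * bar b₀ + ζ ^ j * 1 * (bar ζ ^ j * 1) =
          (ζ * bar ζ) ^ j * (b₀ + bar b₀ + 1 * bar 1) := by
        rw [map_one, mul_pow]
        ring
      rw [this, h₀, mul_zero]
    obtain ⟨f₁, f₂, hf⟩ := hUw (uE bar hb _ _ hcond) _ _ rfl
    exact ⟨f₁, f₂, by rw [hf]; rfl⟩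
  choose gX fX hX using hXex
  have hSex : ∀ j : ℕ, ∃ (f₁ f₂ f₃ f₄ : (ZMod p)[X]) (n : ℕ),
      T₀ * (PW p H₀ U₀ (gX j) * PW p (H₀ ^ n₁) (wW H₀ U₀) (fX j)) * T₀⁻¹ =
        (PW p H₀ U₀ f₁ * PW p (H₀ ^ n₁) (wW H₀ U₀) f₂) * H₀ ^ n * T₀ *
          (PW p H₀ U₀ f₃ * PW p (H₀ ^ n₁) (wW H₀ U₀) f₄) := by
    intro j
    exact Cfsg.Agent.Helper30.SU3P.rel_seed bar hb H₀ T₀ hζ hε hεb hH₀ hT₀
      (fun f₁ f₂ => PW p H₀ U₀ f₁ * PW p (H₀ ^ n₁) (wW H₀ U₀) f₂) hUw _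
      (mul_ne_zero (pow_ne_zero j (mul_ne_zero hζ0 ((map_ne_zero bar).mpr hζ0))) hb₀) (hX j)
  choose gA fA gB fB nA hSd using hSex
  obtain ⟨bi1, bi2, bi3, bi4, bi5, bi6, bi7, bi8, bi9⟩ :=
    Cfsg.Agent.Helper53.SU3P.basic_identities bar hb
  -- assembling
  let P : Par p :=
    { n1 := n₁, q := q, kc := kc, k4 := k4, c4 := c4, mθ := mθ, gC := gC, fZ1 := fZ1, fC := fC,
      fU1 := fU1, fU2 := fU2, fU3 := fU3, fU4 := fU4, fU5 := fU5, gX := gX, fX := fX, gA := gA,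
      fA := fA, nA := nA, gB := gB, fB := fB }
  have hzWdef : ∀ f : (ZMod p)[X], zW P H₀ U₀ f = PW p (H₀ ^ n₁) (wW H₀ U₀) f := fun f => rfl
  have huWdef : ∀ f₁ f₂ : (ZMod p)[X],
      uW P H₀ U₀ f₁ f₂ = PW p H₀ U₀ f₁ * PW p (H₀ ^ n₁) (wW H₀ U₀) f₂ := fun f₁ f₂ => rfl
  have hcross : ∀ r ∈ crossWords P U₀ H₀ T₀, r = 1 := by
    intro r hr
    unfold crossWords at hr
    rw [List.mem_append, List.mem_append] at hr
    rcases hr with (hr | hr) | hr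
    · unfold crossA at hr
      simp only [List.mem_cons, List.not_mem_nil, or_false] at hr
      rcases hr with rfl | rfl | rfl | rfl | rfl | rfl | rfl | rfl | rfl
      · rw [hzWdef, mul_inv_eq_one]
        exact hfZ1.symm
      · -- t h t⁻¹ h^q = 1
        show T₀ * H₀ * T₀⁻¹ * H₀ ^ q = 1
        have key : H₀ ^ q * (T₀ * H₀) = T₀ := by
          apply ext_mt
          have e1 : mt bar (H₀ ^ q) = hM bar (ζ ^ q) := by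
            have := Cfsg.Agent.Helper49.SU3P.mt_zpow_hM bar hb H₀ ζ hζ0 hH₀ (q : ℤ)
            rwa [zpow_natCast, zpow_natCast] at this
          rw [mt_mul, mt_mul, e1, hH₀, hT₀, bi7 ε ζ hε hζ0, ← Matrix.mul_assoc,
            bi3 _ _ (pow_ne_zero q hζ0) (inv_ne_zero ((map_ne_zero bar).mpr hζ0)), ← hbarζ,
            mul_inv_cancel₀ ((map_ne_zero bar).mpr hζ0), bi4, Matrix.one_mul]
        calc T₀ * H₀ * T₀⁻¹ * H₀ ^ q = (H₀ ^ q)⁻¹ * (H₀ ^ q * (T₀ * H₀)) * T₀⁻¹ * H₀ ^ q := by group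
          _ = 1 := by rw [key]; group
      · -- h^(q²-1) = 1
        show H₀ ^ (q ^ 2 - 1) = 1
        apply ext_mt
        have e1 : mt bar (H₀ ^ (q ^ 2 - 1)) = hM bar (ζ ^ (q ^ 2 - 1)) := by
          have := Cfsg.Agent.Helper49.SU3P.mt_zpow_hM bar hb H₀ ζ hζ0 hH₀ ((q ^ 2 - 1 : ℕ) : ℤ)
          rwa [zpow_natCast, zpow_natCast] at this
        rw [e1, hζpow, bi4, mt_one]
      · rw [hzWdef, mul_inv_eq_one]
        exact hfC.symm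
      · rw [hzWdef, mul_inv_eq_one]
        exact hfU1.symm
      · rw [hzWdef, mul_inv_eq_one]
        exact hfU2.symm
      · rw [hzWdef, mul_inv_eq_one]
        exact hfU3.symm
      · rw [hzWdef, mul_inv_eq_one]
        exact hfU4.symm
      · rw [hzWdef, mul_inv_eq_one]
        exact hfU5.symm
    · unfold crossS at hr
      rw [List.mem_map] at hr
      obtain ⟨j, -, rfl⟩ := hr
      rw [mul_inv_eq_one, huWdef, huWdef, huWdef]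
      exact hSd j
    · unfold crossC at hr
      rw [List.mem_map] at hr
      obtain ⟨i, -, rfl⟩ := hr
      apply ext_mt
      rw [Cfsg.Agent.Helper60.SU3P.rel_comm bar hb (uz H₀ U₀ i) (wW H₀ U₀) (hmtuz i) hmtW, mt_one]
      simp only [map_zero, zero_mul, mul_zero, sub_zero, uM]
      ext a b
      fin_cases a <;> fin_cases b <;> simp
  have hX' : ∀ j : ℕ, j < 3 → mt bar (uW P H₀ U₀ (P.gX j) (P.fX j)) =
      uM bar (ζ ^ j * 1) ((ζ * bar ζ) ^ j * b₀) := fun j _ => by rw [huWdef]; exact hX j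
  refine ⟨d, P, Y2, ⟨⟨U₀, H₀, T₀, 1, b₀, ζ, ε, c₀, one_ne_zero, h₀, hζ, hy₀, hε, hεb, hc₀, hc₀b, hU₀,
    hH₀, hT₀, hι, hιfix, eL, heL, hW, hHL, hY2, hT, hsurj, hmθ, hc4, hcross, hX'⟩⟩, rfl, ?_⟩
  -- the count
  show d.rels.card + kc ≤ 10
  rcases hkc with hkc | ⟨h2, hkc⟩
  · omega
  · have h2' : (2 : K₀) = 0 := by
      apply ι.injective
      rw [map_ofNat, map_zero]
      exact h2
    have := hd5 h2'
    omega

end Cfsg.Agent.Helper84.SU3P
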